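import Mathlib.Data.Nat.Notation
set_option autoImplicit false
namespace Cfsg.Agent.Lib.Helper4.McLM.Dat
noncomputable def A0 (i : Nat) : Nat := Nat.land (Nat.shiftRight 0x4361efe7a40de2f675c4a16f273b81c8d969b499af065b2a14c372b01dabe5d2e570b358b7964ae71af156ce553e14ea652a8db8e97ea7d3a9b4d265f4984bb15269282b51448e60a32228b44ad90f0c6c321df08429fcfcd041a00f4793c3a0ee76799d4e67138438de7b64b44d90435b68d2c2342b600667c994c8c6319897a9530184befb2f19d025c2da34b5062c95cba565795560a86d948a851661c89ecf27135dc8a25aa494a0249208eb723115aa4437105d8406f8f4e83b1d44072ff1c0f969011a2b06635189413c2f5a8ba042d6b8b1762b190a8b029480a104271f89942255f890d42363888fa216b0820e1f5207a121d0e23c36420d37432360c2182e430b05528147304c24ea08a102096078f01ce106a70189105930143704bd4105303b100cfc02bdc088801b88047c009b40030 (Nat.mul 9 (Nat.land i 511))) 511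
end Cfsg.Agent.Lib.Helper4.McLM.Dat
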