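import Mathlib.Data.Nat.Notation
set_option autoImplicit false
namespace Cfsg.Agent.Lib.Helper4.McLM.Dat
noncomputable def A1 (i : Nat) : Nat := Nat.land (Nat.shiftRight 0x415ff0a813ce20ef7f3a5d0e773445bee46dba9f4cb7038986cd60b657aba6a40598b77e2bd5cd8562ae12aa612a56ab462bd544a1502c9f7067ca7d30eb81a55b89348a411c944632517005e221e4864220902803fbb9487d3e1ea1abe631dd3c9b3aa711ace6b1bdc26e369b0e06b4b1a5f0685f99cccf032c31066389394c2605817d3a5e76974b8bb68169e8593f41cacb12aa98a85329328a2a52813cb04e601cc984b63929d849323d934465c25c88892132080da1eb3c76d13c8e514386b8dc6c342d8cc8631518c05e32174385a4d1631056481542c52a8140e84ed21321c4a78121c4468f113c442b9101d03e7b0f1d83ad50e06c7c1a2b865c6186f05c8e166eb4c2892098fc241120841320f5b0390a0d538308a0b84028780935021ee073901a1e05568106a03820082a017e800c4b3 (Nat.mul 9 (Nat.land i 511))) 511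
end Cfsg.Agent.Lib.Helper4.McLM.Dat
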