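import Cfsg.Agent.Lib.Helper4.McLM.Dat.LNP0
import Cfsg.Agent.Lib.Helper4.McLM.Dat.LNP1
import Cfsg.Agent.Lib.Helper4.McLM.Dat.LNP2
import Cfsg.Agent.Lib.Helper4.McLM.Dat.LNP3
set_option autoImplicit false
namespace Cfsg.Agent.Lib.Helper4.McLM.Dat
noncomputable def LNT0 (i : Nat) : Nat := Bool.rec (LNP0N46 i) (LNP1N46 i) (Nat.ble 6144 i)
noncomputable def LNT1 (i : Nat) : Nat := Bool.rec (LNP2N46 i) (LNP3N29 i) (Nat.ble 18432 i)
noncomputable def LN (i : Nat) : Nat := Bool.rec (LNT0 i) (LNT1 i) (Nat.ble 12288 i)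
end Cfsg.Agent.Lib.Helper4.McLM.Dat
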