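import Cfsg.Agent.Lib.Helper4.McLM.Dat.MKP0
import Cfsg.Agent.Lib.Helper4.McLM.Dat.MKP1
import Cfsg.Agent.Lib.Helper4.McLM.Dat.MKP2
import Cfsg.Agent.Lib.Helper4.McLM.Dat.MKP3
import Cfsg.Agent.Lib.Helper4.McLM.Dat.MKP4
import Cfsg.Agent.Lib.Helper4.McLM.Dat.MKP5
import Cfsg.Agent.Lib.Helper4.McLM.Dat.MKP6
import Cfsg.Agent.Lib.Helper4.McLM.Dat.MKP7
set_option autoImplicit false
namespace Cfsg.Agent.Lib.Helper4.McLM.Dat
noncomputable def MKT0 (i : Nat) : Nat := Bool.rec (MKP0N46 i) (MKP1N46 i) (Nat.ble 3072 i)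
noncomputable def MKT1 (i : Nat) : Nat := Bool.rec (MKP2N46 i) (MKP3N46 i) (Nat.ble 9216 i)
noncomputable def MKT2 (i : Nat) : Nat := Bool.rec (MKT0 i) (MKT1 i) (Nat.ble 6144 i)
noncomputable def MKT3 (i : Nat) : Nat := Bool.rec (MKP4N46 i) (MKP5N46 i) (Nat.ble 15360 i)
noncomputable def MKT4 (i : Nat) : Nat := Bool.rec (MKP6N46 i) (MKP7N11 i) (Nat.ble 21504 i)
noncomputable def MKT5 (i : Nat) : Nat := Bool.rec (MKT3 i) (MKT4 i) (Nat.ble 18432 i)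
noncomputable def MK (i : Nat) : Nat := Bool.rec (MKT2 i) (MKT5 i) (Nat.ble 12288 i)
end Cfsg.Agent.Lib.Helper4.McLM.Dat
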