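import Cfsg.Agent.Lib.Helper4.McLM.Dat.TL1P0
import Cfsg.Agent.Lib.Helper4.McLM.Dat.TL1P1
set_option autoImplicit false
namespace Cfsg.Agent.Lib.Helper4.McLM.Dat
noncomputable def TL1 (i : Nat) : Nat := Bool.rec (TL1P0N46 i) (TL1P1N38 i) (Nat.ble 12288 i)
end Cfsg.Agent.Lib.Helper4.McLM.Dat
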